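import Cfsg.Agent.H576.Ext.Defs
import Cfsg.Agent.H980.ExtPsl2
import Cfsg.Agent.H489.OutSpor
import Cfsg.Agent.H761.LieExt

/-!
# S4832, free rows: sporadic, alternating and Tits groups (helper846)

* `sylCyc_sporadic`, `sylCyc_tits`, `sylCyc_alt` : `|Out S| ≤ 2`;
* `hasExt_alt_six` : `A₆`;
* `hasExt_of_rowE`, `hasExt_of_extAut'`.
-/

set_option autoImplicit false

namespace Cfsg.Agent.H846.Ext

open Cfsg Subgroup Cfsg.Agent.H576.Ext

universe u

/-- `|Out S| ≤ 2` -/
theorem sylCyc_of_card_le_two {S : Type u} [Group S] [Finite S] (h : Nat.card (Out S) ≤ 2) : SylCyc S := by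
  classical
  intro ℓ _ P _ _
  by_cases hP : ∀ α ∈ P, α ∈ Inn S
  · refine ⟨1, P.one_mem, fun α hα => ?_⟩
    obtain ⟨s, hs⟩ := hP α hα
    exact ⟨0, s, by rw [one_zpow, mul_one, ← hs]⟩
  · push Not at hP
    obtain ⟨γ, hγ, hγ'⟩ := hP
    refine ⟨γ, hγ, fun α _ => ?_⟩
    by_cases hα : α ∈ Inn S
    · obtain ⟨s, hs⟩ := hα
      exact ⟨0, s, by rw [zpow_zero, mul_one, ← hs]⟩
    · -- `α γ⁻¹` is inner
      have h1 : α * γ⁻¹ ∈ Inn S := by
        by_contra hcon
        have h3 : (QuotientGroup.mk α : Out S) ≠ QuotientGroup.mk γ := by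
          intro h4
          apply hcon
          have h5 : (QuotientGroup.mk' (Inn S)) (α * γ⁻¹) = 1 := by
            rw [map_mul, map_inv, mul_inv_eq_one]
            exact h4
          exact (QuotientGroup.eq_one_iff _).1 h5
        have h6 : (QuotientGroup.mk α : Out S) ≠ 1 := fun h4 => hα ((QuotientGroup.eq_one_iff _).1 h4)
        have h7 : (QuotientGroup.mk γ : Out S) ≠ 1 := fun h4 => hγ' ((QuotientGroup.eq_one_iff _).1 h4)
        have h8 : ({1, (QuotientGroup.mk α : Out S), (QuotientGroup.mk γ : Out S)} : Finset (Out S)).card = 3 := by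
          rw [Finset.card_insert_of_notMem, Finset.card_pair h3]
          rw [Finset.mem_insert, Finset.mem_singleton, not_or]
          exact ⟨h6.symm, h7.symm⟩
        have hfin : Finite (MulAut S) := inferInstance
        have : Fintype (Out S) := Fintype.ofFinite _
        have h9 := Finset.card_le_univ ({1, (QuotientGroup.mk α : Out S), (QuotientGroup.mk γ : Out S)} : Finset (Out S))
        rw [h8, ← Nat.card_eq_fintype_card] at h9
        omega
      obtain ⟨s, hs⟩ := h1
      exact ⟨1, s, by rw [zpow_one, hs, inv_mul_cancel_right]⟩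

/-- **sporadic groups** -/
theorem sylCyc_sporadic {S : Type u} [Group S] [Finite S] (h : IsSporadicGroup S) : SylCyc S :=
  sylCyc_of_card_le_two (H489.card_out_sporadic h)

/-- **the Tits group** -/
theorem sylCyc_tits {S : Type u} [Group S] [Finite S] (h : Lie.IsoTits S) : SylCyc S :=
  sylCyc_of_card_le_two (H489.card_out_tits h)

/-- **alternating groups of degree `≠ 6`** -/
theorem sylCyc_alt {S : Type u} [Group S] [Finite S] {n : ℕ} (hn : 5 ≤ n) (h6 : n ≠ 6)
    (h : Nonempty (S ≃* alternatingGroup (Fin n))) : SylCyc S := by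
  obtain ⟨e⟩ := h
  exact sylCyc_of_card_le_two (by rw [H55.OutGen.card_out_congr e, H489.card_out_alt hn h6])

theorem hasExt_of_rowE {S : Type u} [Group S] {p : ℕ} (h : H980.Ext.RowE p S) : HasExt p S := by
  obtain ⟨θ, hd, hE⟩ := h
  obtain ⟨ψ, hψ⟩ := hE (stab (θ : S → ℂ)) (fun α => Iff.rfl)
  exact ⟨θ, θ.2, hd, ψ, ψ.2, hψ⟩

theorem hasExt_of_extAut' {S : Type u} [Group S] [Finite S] {p : ℕ} {θ : IrrCharacter S}
    (h : H671.H5.ExtAut θ) (hd : p ∣ charDegree (θ : S → ℂ)) : HasExt p S :=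
  hasExt_of_rowE ⟨θ, hd, H980.Ext.ExtStab.of_extAut h⟩

/-- **`A₆`** -/
theorem hasExt_alt_six {S : Type u} [Group S] [Finite S] (h : Nonempty (S ≃* alternatingGroup (Fin 6))) {p : ℕ}
    (hp : p.Prime) (hd : p ∣ Nat.card S) : HasExt p S := by
  have := Fact.mk hp
  obtain ⟨e⟩ := h
  let _ : Fintype (GaloisField 3 2) := Fintype.ofFinite _
  have h9 : Fintype.card (GaloisField 3 2) = 9 := by
    rw [← Nat.card_eq_fintype_card, GaloisField.card 3 2 (by norm_num)]
    norm_num
  obtain ⟨e'⟩ := S0254.result h9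
  have f : S ≃* Matrix.ProjectiveSpecialLinearGroup (Fin 2) (GaloisField 3 2) := e.trans e'.symm
  by_cases h3 : p = 3
  · subst h3
    have hs : IsSimpleGroup (Matrix.ProjectiveSpecialLinearGroup (Fin 2) (GaloisField 3 2)) :=
      H980.Ext.PslTwo.simple (by rw [h9]; norm_num)
    have hna := H980.Ext.PslTwo.not_comm (F := GaloisField 3 2) (by rw [h9]; norm_num)
    have hs' : IsSimpleGroup S := by
      have : Nontrivial S := f.toEquiv.nontrivial
      exact IsSimpleGroup.isSimpleGroup_of_surjective f.symm.toMonoidHom f.symm.surjective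
    have hna' : ¬ IsMulCommutative S := by
      intro hc
      apply hna
      refine ⟨⟨fun a b => f.symm.injective ?_⟩⟩
      rw [map_mul, map_mul]
      exact hc.is_comm.comm _ _
    have hchar : IsLieTypeChar 3 S := Or.inl ⟨GaloisField 3 2, inferInstance, inferInstance, inferInstance, 2, le_rfl,
      fun _ => by rw [h9]; norm_num, ⟨f⟩⟩
    obtain ⟨θ, hθ, hE⟩ := H761.LieExt.lie_ext hna' hchar
    refine hasExt_of_extAut' hE ?_
    rw [hθ]
    have h1 := (Nat.Prime.dvd_iff_one_le_factorization hp (Nat.card_pos (α := S)).ne').1 hd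
    exact dvd_pow_self 3 (by omega)
  · refine hasExt_of_rowE (H980.Ext.RowE.of_equiv f (H980.Ext.PslTwo.row_psl2 (by rw [h9]; norm_num) ?_ ?_))
    · rw [← Nat.card_congr f.toEquiv]
      exact hd
    · rw [h9]
      intro h1
      exact h3 ((Nat.prime_dvd_prime_iff_eq hp Nat.prime_three).1 (hp.dvd_of_dvd_pow (show p ∣ 3 ^ 2 from h1)))

end Cfsg.Agent.H846.Ext
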